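import Groth.Agent.FlatPurLib.Extend
import Mathlib.AlgebraicGeometry.Morphisms.ClosedImmersion
import Mathlib.AlgebraicGeometry.Morphisms.Separated

/-!
Extension of sections across a closed subset of depth at least two.
-/

set_option autoImplicit false
set_option linter.style.haveILetI false
set_option backward.isDefEq.respectTransparency false

universe u

open AlgebraicGeometry CategoryTheory CategoryTheory.Limits Opposite TopologicalSpace

namespace Groth.Agent.FlatPurLib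

/-- The complement has depth at least one. -/
def Depth1 (X : Scheme.{u}) (U : X.Opens) : Prop :=
  ∀ z : X, z ∉ U → ∃ a ∈ IsLocalRing.maximalIdeal (X.presheaf.stalk z), IsSMulRegular (X.presheaf.stalk z) a

/-- The complement has depth at least two. -/
def Depth2 (X : Scheme.{u}) (U : X.Opens) : Prop :=
  ∀ z : X, z ∉ U → ∃ a b : X.presheaf.stalk z, a ∈ IsLocalRing.maximalIdeal (X.presheaf.stalk z) ∧
    b ∈ IsLocalRing.maximalIdeal (X.presheaf.stalk z) ∧ IsSMulRegular (X.presheaf.stalk z) a ∧ ∀ y, a ∣ b * y → a ∣ y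

theorem dvd_of_isWeaklyRegular {L : Type u} [CommRing L] {a b : L}
    (hab : RingTheory.Sequence.IsWeaklyRegular L [a, b]) : IsSMulRegular L a ∧ ∀ y, a ∣ b * y → a ∣ y := by
    rw [RingTheory.Sequence.isWeaklyRegular_cons_iff, RingTheory.Sequence.isWeaklyRegular_singleton_iff] at hab
    refine ⟨hab.1, fun y hy => ?_⟩
    focus
      have := hab.2.right_eq_zero_of_smul (x := Submodule.Quotient.mk y) (by
        rw [← Submodule.Quotient.mk_smul, Submodule.Quotient.mk_eq_zero, smul_eq_mul,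
          Submodule.mem_smul_pointwise_iff_exists]
        obtain ⟨c, hc⟩ := hy
        exact ⟨c, trivial, hc.symm⟩)
      rw [Submodule.Quotient.mk_eq_zero, Submodule.mem_smul_pointwise_iff_exists] at this
      obtain ⟨c, -, hc⟩ := this
      exact ⟨c, hc.symm⟩

variable {W X : Scheme.{u}} {U : X.Opens}

theorem Depth1.preimage (hU : Depth1 X U) (h : W ⟶ X) [IsOpenImmersion h] : Depth1 W (h ⁻¹ᵁ U) := fun z hz => by
  obtain ⟨a, ha, hr⟩ := hU (h z) hz
  let e := (asIso (h.stalkMap z)).commRingCatIsoToRingEquiv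
  refine ⟨e a, fun hu => ha ?_, fun x y hxy => e.symm.injective (hr ?_)⟩
  · exact (isUnit_map_iff e a).1 hu
  · simpa using congrArg e.symm hxy

theorem Depth2.preimage (hU : Depth2 X U) (h : W ⟶ X) [IsOpenImmersion h] : Depth2 W (h ⁻¹ᵁ U) := fun z hz => by
  obtain ⟨a, b, ha, hb, hr, hd⟩ := hU (h z) hz
  let e := (asIso (h.stalkMap z)).commRingCatIsoToRingEquiv
  refine ⟨e a, e b, fun hu => ha ?_, fun hu => hb ?_, fun x y hxy => e.symm.injective (hr ?_), fun y hy => ?_⟩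
  · exact (isUnit_map_iff e a).1 hu
  · exact (isUnit_map_iff e b).1 hu
  · simpa using congrArg e.symm hxy
  · have := hd (e.symm y) (by simpa using map_dvd e.symm hy)
    simpa using map_dvd e this

theorem Depth2.depth1 (hU : Depth2 X U) : Depth1 X U := fun z hz => by
  obtain ⟨a, b, ha, -, hr, -⟩ := hU z hz
  exact ⟨a, ha, hr⟩

theorem injective_ι_appTop [IsAffine X] (hU : Depth1 X U) : Function.Injective (U.ι.appTop) := by
  intro x y hxy
  refine sub_eq_zero.1 (eq_zero_of_res_eq_zero U hU _ ?_)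
  rw [map_sub, sub_eq_zero]
  have := congrArg U.topIso.hom hxy
  simpa [res, Scheme.Opens.ι_appTop, ← Functor.map_comp, ← CommRingCat.comp_apply] using this

theorem isIso_ι_appTop [IsAffine X] [CompactSpace U] (hU : Depth2 X U) : IsIso (U.ι.appTop) := by
  have h : IsIso (X.presheaf.map (homOfLE le_top : U ⟶ ⊤).op) :=
    (ConcreteCategory.isIso_iff_bijective _).2 (res_bijective U hU)
  rw [ConcreteCategory.isIso_iff_bijective] at h ⊢
  refine ⟨injective_ι_appTop hU.depth1, fun y => ?_⟩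
  obtain ⟨x, hx⟩ := h.2 (U.topIso.hom y)
  refine ⟨x, (ConcreteCategory.bijective_of_isIso U.topIso.hom).1 ?_⟩
  rw [← hx]
  simp [Scheme.Opens.ι_appTop, ← Functor.map_comp, ← CommRingCat.comp_apply]

theorem isIso_of_isClosedImmersion [IsAffine X] (hU : Depth1 X U) {K : Scheme.{u}} (i : K ⟶ X) [IsClosedImmersion i]
    (g : (U : Scheme.{u}) ⟶ K) (hg : g ≫ i = U.ι) : IsIso i := by
  obtain ⟨hK, hsurj⟩ := IsClosedImmersion.isAffine_surjective_of_isAffine i
  have : IsIso i.appTop := (ConcreteCategory.isIso_iff_bijective _).2 ⟨fun x y h => injective_ι_appTop hU (by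
    rw [← hg, Scheme.Hom.comp_appTop, CommRingCat.comp_apply, CommRingCat.comp_apply, h]), hsurj⟩
  exact (HasAffineProperty.iff_of_isAffine (P := MorphismProperty.isomorphisms Scheme)).2 ⟨inferInstance, this⟩

theorem section_unique (hU : Depth1 X U) {Y S : Scheme.{u}} (f : Y ⟶ S) [IsSeparated f] (s₁ s₂ : X ⟶ Y)
    (h : s₁ ≫ f = s₂ ≫ f) (he : U.ι ≫ s₁ = U.ι ≫ s₂) : s₁ = s₂ := by
  let i := pullback.snd (pullback.diagonal f) (pullback.lift s₁ s₂ h)
  let g : (U : Scheme.{u}) ⟶ pullback (pullback.diagonal f) (pullback.lift s₁ s₂ h) :=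
    pullback.lift (U.ι ≫ s₁) U.ι (by ext <;> simp [he])
  have hg : g ≫ i = U.ι := pullback.lift_snd _ _ _
  have hi : MorphismProperty.isomorphisms Scheme i := by
    refine (IsZariskiLocalAtTarget.iff_of_iSup_eq_top _ (iSup_affineOpens_eq_top X)).2 fun W => ?_
    haveI : IsAffine W.1.toScheme := W.2
    exact isIso_of_isClosedImmersion (hU.preimage W.1.ι) (i ∣_ W.1)
      ((isPullback_morphismRestrict i W.1).flip.lift ((W.1.ι ∣_ U) ≫ g) (W.1.ι ⁻¹ᵁ U).ι (by
        rw [Category.assoc, hg, morphismRestrict_ι]))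
      (IsPullback.lift_snd _ _ _ _)
  haveI : IsIso i := hi
  have h1 : pullback.lift s₁ s₂ h = inv i ≫ pullback.fst _ _ ≫ pullback.diagonal f := by
    rw [pullback.condition]; simp [i]
  have e1 := congrArg (· ≫ pullback.fst f f) h1
  have e2 := congrArg (· ≫ pullback.snd f f) h1
  simp only [Category.assoc, pullback.lift_fst, pullback.lift_snd, pullback.diagonal_fst, pullback.diagonal_snd] at e1 e2
  exact e1.trans e2.symm

theorem exists_extend {V W Z : Scheme.{u}} [IsAffine W] [IsAffine Z] (j : V ⟶ W) [IsIso j.appTop] (t : V ⟶ Z) :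
    ∃ σ : W ⟶ Z, j ≫ σ = t := by
  refine ⟨W.isoSpec.hom ≫ Spec.map (t.appTop ≫ inv j.appTop) ≫ Z.isoSpec.inv, ?_⟩
  rw [Scheme.isoSpec_hom, Scheme.toSpecΓ_naturality_assoc, ← Spec.map_comp_assoc, Category.assoc,
    IsIso.inv_hom_id, Category.comp_id, ← Scheme.toSpecΓ_naturality_assoc, ← Scheme.isoSpec_hom,
    Iso.hom_inv_id, Category.comp_id]

theorem section_exists [QuasiCompact U.ι] (hU : Depth2 X U) {Y : Scheme.{u}} (f : Y ⟶ X) [IsAffineHom f]
    (t : (U : Scheme.{u}) ⟶ Y) (ht : t ≫ f = U.ι) : ∃ s : X ⟶ Y, s ≫ f = 𝟙 X ∧ U.ι ≫ s = t := by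
  let 𝒰 := X.affineCover
  have hloc : ∀ i : 𝒰.I₀, ∃ σ : 𝒰.X i ⟶ Y, σ ≫ f = 𝒰.f i ∧ ((𝒰.f i) ⁻¹ᵁ U).ι ≫ σ = (𝒰.f i ∣_ U) ≫ t := fun i => by
    haveI : IsAffine (pullback f (𝒰.f i)) := isAffine_of_isAffineHom (pullback.snd f (𝒰.f i))
    haveI : QuasiCompact ((𝒰.f i) ⁻¹ᵁ U).ι :=
      MorphismProperty.of_isPullback (isPullback_morphismRestrict (𝒰.f i) U) (inferInstance : QuasiCompact U.ι)
    haveI : CompactSpace ((𝒰.f i) ⁻¹ᵁ U) := HasAffineProperty.iff_of_isAffine.1 (inferInstance : QuasiCompact ((𝒰.f i) ⁻¹ᵁ U).ι)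
    haveI := isIso_ι_appTop (hU.preimage (𝒰.f i))
    obtain ⟨σ, hσ⟩ := exists_extend ((𝒰.f i) ⁻¹ᵁ U).ι
      (pullback.lift ((𝒰.f i ∣_ U) ≫ t) ((𝒰.f i) ⁻¹ᵁ U).ι (by rw [Category.assoc, ht, morphismRestrict_ι]) :
        ((𝒰.f i) ⁻¹ᵁ U).toScheme ⟶ pullback f (𝒰.f i))
    have hid : σ ≫ pullback.snd f (𝒰.f i) = 𝟙 _ := by
      apply ext_of_isAffine
      rw [← cancel_mono ((𝒰.f i) ⁻¹ᵁ U).ι.appTop, ← Scheme.Hom.comp_appTop, ← Scheme.Hom.comp_appTop,
        ← Category.assoc, hσ, pullback.lift_snd, Category.comp_id]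
    refine ⟨σ ≫ pullback.fst f (𝒰.f i), ?_, ?_⟩
    · rw [Category.assoc, pullback.condition, reassoc_of% hid]
    · rw [← Category.assoc, hσ, pullback.lift_fst]
  choose σ hσ hσU using hloc
  have hcompat : ∀ i j, pullback.fst (𝒰.f i) (𝒰.f j) ≫ σ i = pullback.snd (𝒰.f i) (𝒰.f j) ≫ σ j := fun i j => by
    let p := pullback.fst (𝒰.f i) (𝒰.f j) ≫ 𝒰.f i
    refine section_unique (hU.depth1.preimage p) f _ _ (by simp [hσ, pullback.condition]) ?_
    have aux : ∀ (k : 𝒰.I₀) (q : pullback (𝒰.f i) (𝒰.f j) ⟶ 𝒰.X k), q ≫ 𝒰.f k = p →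
        (p ⁻¹ᵁ U).ι ≫ q ≫ σ k = (p ∣_ U) ≫ t := fun k q hq => by
      let l := (isPullback_morphismRestrict (𝒰.f k) U).lift (p ∣_ U) ((p ⁻¹ᵁ U).ι ≫ q)
        (by rw [Category.assoc, hq, morphismRestrict_ι])
      rw [← Category.assoc, ← (isPullback_morphismRestrict (𝒰.f k) U).lift_snd (p ∣_ U) ((p ⁻¹ᵁ U).ι ≫ q)
        (by rw [Category.assoc, hq, morphismRestrict_ι]), Category.assoc, hσU, IsPullback.lift_fst_assoc]
    rw [aux i _ rfl, aux j _ pullback.condition.symm]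
  refine ⟨𝒰.glueMorphisms σ hcompat, 𝒰.hom_ext _ _ fun i => ?_, ?_⟩
  · rw [Scheme.Cover.ι_glueMorphisms_assoc, hσ, Category.comp_id]
  · refine Scheme.Cover.hom_ext (𝒰.pullback₁ U.ι) _ _ fun i => ?_
    change pullback.fst U.ι (𝒰.f i) ≫ _ = pullback.fst U.ι (𝒰.f i) ≫ _
    rw [← Category.assoc, pullback.condition, Category.assoc, Scheme.Cover.ι_glueMorphisms]
    conv_lhs => rw [← (isPullback_morphismRestrict (𝒰.f i) U).lift_snd (pullback.fst U.ι (𝒰.f i)) (pullback.snd U.ι (𝒰.f i))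
      pullback.condition]
    rw [Category.assoc, hσU, IsPullback.lift_fst_assoc]

end Groth.Agent.FlatPurLib
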