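import Mathlib.AlgebraicGeometry.Morphisms.QuasiCompact
import Mathlib.AlgebraicGeometry.Morphisms.Affine
import Mathlib.AlgebraicGeometry.AffineScheme
import Mathlib.RingTheory.Regular.RegularSequence
import Mathlib.RingTheory.Ideal.MinimalPrime.Basic
import Mathlib.RingTheory.Localization.AtPrime.Basic
import Mathlib.Tactic

/-!
Sections over an open whose complement has depth at least one (resp. two).
-/

set_option autoImplicit false
set_option linter.style.haveILetI false
set_option backward.isDefEq.respectTransparency false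

universe u

open AlgebraicGeometry CategoryTheory Opposite TopologicalSpace

namespace Groth.Agent.FlatPurLib

theorem pow_map_mem_of_mem_minimalPrimes {A L : Type u} [CommRing A] [CommRing L] [Algebra A L]
    {p : Ideal A} [p.IsPrime] [IsLocalization.AtPrime L p] [IsLocalRing L] {I : Ideal A}
    (hp : p ∈ I.minimalPrimes) {a : L} (ha : a ∈ IsLocalRing.maximalIdeal L) :
    ∃ N : ℕ, a ^ N ∈ I.map (algebraMap A L) := by
  have : a ∈ (I.map (algebraMap A L)).radical := by
    rw [Ideal.radical_eq_sInf]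
    refine Ideal.mem_sInf.2 fun {Q} hQ => ?_
    obtain ⟨hIQ, hQp⟩ := hQ
    haveI := hQp
    have hle : Q.comap (algebraMap A L) ≤ p :=
      (IsLocalization.AtPrime.comap_maximalIdeal L p) ▸ Ideal.comap_mono (IsLocalRing.le_maximalIdeal hQp.ne_top)
    have he : p ≤ Q.comap (algebraMap A L) := hp.2 ⟨hQp.comap _, Ideal.map_le_iff_le_comap.1 hIQ⟩ hle
    have hmax : IsLocalRing.maximalIdeal L ≤ Q := by
      rw [← IsLocalization.map_comap p.primeCompl L (IsLocalRing.maximalIdeal L),
        IsLocalization.AtPrime.comap_maximalIdeal L p]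
      exact Ideal.map_le_iff_le_comap.2 he
    exact hmax ha
  exact this

theorem eq_mul_of_mul_eq {L : Type u} [CommRing L] {a b : L} (ha : IsSMulRegular L a)
    (hb : ∀ y, a ∣ b * y → a ∣ y) (m n : ℕ) (y : L) (h : a ^ n ∣ b ^ m * y) : a ^ n ∣ y := by
  induction n generalizing y with
  | zero => simp
  | succ n ih =>
    have hbm : ∀ m y, a ∣ b ^ m * y → a ∣ y := fun m => by
      induction m with
      | zero => simp
      | succ m ihm =>
        intro y hy
        exact ihm y (hb _ (by rwa [← mul_assoc, ← pow_succ']))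
    obtain ⟨y', rfl⟩ := hbm m y ((dvd_pow_self a (Nat.succ_ne_zero n)).trans h)
    obtain ⟨c, hc⟩ := h
    have : a ^ n ∣ b ^ m * y' := ⟨c, ha (show a • (b ^ m * y') = a • (a ^ n * c) by
      simp only [smul_eq_mul]
      rw [← mul_assoc a (a ^ n), ← pow_succ', ← hc]
      ring)⟩
    obtain ⟨d, rfl⟩ := ih y' this
    exact ⟨d, by ring⟩

variable {X : Scheme.{u}}

/-- The restriction of global sections. -/
noncomputable def res (U : X.Opens) : Γ(X, ⊤) →+* Γ(X, U) := (X.presheaf.map (homOfLE le_top).op).hom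

theorem res_res {U V : X.Opens} (h : V ≤ U) (x : Γ(X, ⊤)) :
    X.presheaf.map (homOfLE h).op (res U x) = res V x := by
  change (X.presheaf.map (homOfLE le_top).op ≫ X.presheaf.map (homOfLE h).op).hom x = _
  rw [← Functor.map_comp]
  rfl

variable [IsAffine X] (U : X.Opens)

theorem exists_cover (z : X) (hz : z ∈ U) : ∃ g : Γ(X, ⊤), X.basicOpen g ≤ U ∧ z ∈ X.basicOpen g :=
  (isAffineOpen_top X).exists_basicOpen_le ⟨z, hz⟩ trivial

theorem mem_basicOpen_iff (p : PrimeSpectrum Γ(X, ⊤)) (g : Γ(X, ⊤)) :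
    (isAffineOpen_top X).fromSpec p ∈ X.basicOpen g ↔ g ∉ p.asIdeal := by
  change p ∈ (isAffineOpen_top X).fromSpec ⁻¹ᵁ X.basicOpen g ↔ _
  rw [(isAffineOpen_top X).fromSpec_preimage_basicOpen]
  rfl

/-- The stalk at a prime as an algebra over global sections. -/
noncomputable abbrev stalkAlg (p : PrimeSpectrum Γ(X, ⊤)) :
    Algebra Γ(X, ⊤) (X.presheaf.stalk ((isAffineOpen_top X).fromSpec p)) :=
  TopCat.Presheaf.algebra_section_stalk X.presheaf (U := ⊤) ⟨(isAffineOpen_top X).fromSpec p, trivial⟩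

theorem eq_zero_of_res_eq_zero
    (hZ : ∀ z : X, z ∉ U → ∃ a ∈ IsLocalRing.maximalIdeal (X.presheaf.stalk z), IsSMulRegular (X.presheaf.stalk z) a)
    (x : Γ(X, ⊤)) (hx : res U x = 0) : x = 0 := by
  by_contra hne
  let I : Ideal Γ(X, ⊤) := Submodule.annihilator (Submodule.span Γ(X, ⊤) {x})
  have hI : ∀ u, u ∈ I ↔ u * x = 0 := fun u => Submodule.mem_annihilator_span_singleton _ _
  have hne' : I ≠ ⊤ := fun h => hne (by simpa using (hI 1).1 (h ▸ Submodule.mem_top))
  obtain ⟨P, hP, hle⟩ := Ideal.exists_le_maximal I hne'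
  obtain ⟨q, hq, -⟩ := Ideal.exists_minimalPrimes_le hle (J := P)
  haveI := hq.1.1
  let p : PrimeSpectrum Γ(X, ⊤) := ⟨q, inferInstance⟩
  let z := (isAffineOpen_top X).fromSpec p
  letI := stalkAlg p
  haveI : IsLocalization.AtPrime (X.presheaf.stalk z) q := (isAffineOpen_top X).isLocalization_stalk' p trivial
  have hx' : algebraMap Γ(X, ⊤) (X.presheaf.stalk z) x = 0 := by
    by_cases hzU : z ∈ U
    · have h := congrArg (X.presheaf.germ U z hzU) hx
      rw [map_zero] at h
      refine Eq.trans ?_ h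
      exact (TopCat.Presheaf.germ_res_apply X.presheaf (homOfLE le_top : U ⟶ ⊤) z hzU x).symm
    · obtain ⟨a, ha, hreg⟩ := hZ z hzU
      obtain ⟨N, hN⟩ := pow_map_mem_of_mem_minimalPrimes hq ha
      refine (hreg.pow N).right_eq_zero_of_smul ?_
      obtain ⟨⟨i, s⟩, hs⟩ := (IsLocalization.mem_map_algebraMap_iff q.primeCompl _).1 hN
      refine (IsLocalization.map_units (X.presheaf.stalk z) s).mul_right_eq_zero.1 ?_
      simp only at hs
      rw [smul_eq_mul, ← mul_assoc, mul_comm (algebraMap _ _ (s : Γ(X, ⊤))), hs, ← map_mul, (hI _).1 i.2, map_zero]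
  obtain ⟨u, hu⟩ := (IsLocalization.map_eq_zero_iff q.primeCompl _ _).1 hx'
  exact u.2 (hq.1.2 ((hI _).2 hu))

theorem exists_smul_eq_zero [CompactSpace U] {p : PrimeSpectrum Γ(X, ⊤)} {i : Γ(X, ⊤)}
    (hi : IsSMulRegular (X.presheaf.stalk ((isAffineOpen_top X).fromSpec p))
      ((X.presheaf.germ ⊤ ((isAffineOpen_top X).fromSpec p) trivial).hom i))
    {m : Γ(X, U)} (hm : res U i * m = 0) : ∃ u, u ∉ p.asIdeal ∧ res U u * m = 0 := by
  classical
  let z := (isAffineOpen_top X).fromSpec p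
  letI := stalkAlg p
  haveI : IsLocalization.AtPrime (X.presheaf.stalk z) p.asIdeal := (isAffineOpen_top X).isLocalization_stalk' p trivial
  choose g hgle hgmem using fun y : U => exists_cover U y.1 y.2
  obtain ⟨t, ht⟩ := isCompact_univ.elim_finite_subcover (fun y : U => U.ι ⁻¹ᵁ X.basicOpen (g y) |>.carrier)
    (fun y => Opens.isOpen _) (fun y _ => Set.mem_iUnion.2 ⟨y, hgmem y⟩)
  have key : ∀ y : U, ∃ u, u ∉ p.asIdeal ∧
      X.presheaf.map (homOfLE (hgle y)).op (res U u * m) = 0 := fun y => by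
    letI : Algebra Γ(X, ⊤) Γ(X, X.basicOpen (g y)) := (res (X.basicOpen (g y))).toAlgebra
    haveI : IsLocalization.Away (g y) Γ(X, X.basicOpen (g y)) :=
      (isAffineOpen_top X).isLocalization_basicOpen (g y)
    obtain ⟨⟨h, ⟨_, k, rfl⟩⟩, hk⟩ := IsLocalization.surj (Submonoid.powers (g y))
      (X.presheaf.map (homOfLE (hgle y)).op m)
    simp only at hk
    have h0 : algebraMap Γ(X, ⊤) Γ(X, X.basicOpen (g y)) (i * h) = 0 := by
      rw [map_mul, ← hk, ← mul_assoc]
      have := congrArg (X.presheaf.map (homOfLE (hgle y)).op) hm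
      rw [map_mul, map_zero, res_res] at this
      change res _ i * _ * _ = _
      rw [this, zero_mul]
    obtain ⟨⟨_, l, rfl⟩, hl⟩ := (IsLocalization.map_eq_zero_iff (Submonoid.powers (g y)) _ _).1 h0
    simp only at hl
    have h1 : algebraMap Γ(X, ⊤) (X.presheaf.stalk z) (g y ^ l * h) = 0 := by
      refine hi.right_eq_zero_of_smul ?_
      change algebraMap Γ(X, ⊤) (X.presheaf.stalk z) i * _ = 0
      rw [← map_mul, show i * (g y ^ l * h) = g y ^ l * (i * h) by ring, hl, map_zero]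
    obtain ⟨u, hu⟩ := (IsLocalization.map_eq_zero_iff p.asIdeal.primeCompl _ _).1 h1
    refine ⟨u, u.2, ?_⟩
    have hunit := (IsLocalization.map_units Γ(X, X.basicOpen (g y))
      (⟨g y ^ (l + k), l + k, rfl⟩ : Submonoid.powers (g y)))
    refine hunit.mul_left_eq_zero.1 ?_
    rw [map_mul, res_res]
    change algebraMap Γ(X, ⊤) _ (u : Γ(X, ⊤)) * _ * algebraMap Γ(X, ⊤) _ (g y ^ (l + k)) = 0
    rw [pow_add, map_mul, mul_comm (algebraMap _ _ (g y ^ l)), mul_assoc, ← mul_assoc (X.presheaf.map _ m), hk,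
      ← map_mul, ← map_mul, mul_comm h, hu, map_zero]
  choose u hu hu0 using key
  refine ⟨∏ y ∈ t, u y, fun h => ?_, ?_⟩
  · obtain ⟨y, -, hy⟩ := (Ideal.IsPrime.prod_mem_iff (hp := p.isPrime)).1 h
    exact hu y hy
  · refine X.sheaf.eq_of_locally_eq' (fun y : t => X.basicOpen (g y.1)) U (fun y => homOfLE (hgle y.1)) ?_ _ _
      fun y => ?_
    · intro w hw
      obtain ⟨y, hy⟩ := Set.mem_iUnion₂.1 (ht (Set.mem_univ (⟨w, hw⟩ : U)))
      exact Opens.mem_iSup.2 ⟨⟨y, hy.1⟩, hy.2⟩
    · change X.presheaf.map (homOfLE (hgle y.1)).op _ = X.presheaf.map (homOfLE (hgle y.1)).op 0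
      rw [map_zero, ← Finset.prod_erase_mul t u y.2, map_mul (res U), mul_assoc, map_mul, hu0, mul_zero]

theorem res_bijective [CompactSpace U]
    (hZ : ∀ z : X, z ∉ U → ∃ a b : X.presheaf.stalk z, a ∈ IsLocalRing.maximalIdeal (X.presheaf.stalk z) ∧
      b ∈ IsLocalRing.maximalIdeal (X.presheaf.stalk z) ∧ IsSMulRegular (X.presheaf.stalk z) a ∧ ∀ y, a ∣ b * y → a ∣ y) :
    Function.Bijective (res U) := by
  have hinj : Function.Injective (res U) := (injective_iff_map_eq_zero _).2 fun x hx =>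
    eq_zero_of_res_eq_zero U (fun z hz => by
      obtain ⟨a, b, ha, -, h⟩ := hZ z hz
      exact ⟨a, ha, h.1⟩) x hx
  refine ⟨hinj, fun σ => ?_⟩
  let I : Ideal Γ(X, ⊤) :=
    { carrier := {g | ∃ x, res U x = res U g * σ}
      zero_mem' := ⟨0, by simp⟩
      add_mem' := by
        rintro g h ⟨x, hx⟩ ⟨y, hy⟩
        exact ⟨x + y, by rw [map_add, map_add, hx, hy, add_mul]⟩
      smul_mem' := by
        rintro c g ⟨x, hx⟩
        exact ⟨c * x, by rw [smul_eq_mul, map_mul, map_mul, hx, mul_assoc]⟩ }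
  suffices h1 : I = ⊤ by
    obtain ⟨x, hx⟩ := h1 ▸ Submodule.mem_top (x := (1 : Γ(X, ⊤)))
    exact ⟨x, by simpa using hx⟩
  by_contra hne
  obtain ⟨P, hP, hle⟩ := Ideal.exists_le_maximal I hne
  obtain ⟨q, hq, -⟩ := Ideal.exists_minimalPrimes_le hle (J := P)
  haveI := hq.1.1
  let p : PrimeSpectrum Γ(X, ⊤) := ⟨q, inferInstance⟩
  let z := (isAffineOpen_top X).fromSpec p
  by_cases hzU : z ∈ U
  · obtain ⟨g, hgU, hgz⟩ := exists_cover U z hzU
    letI : Algebra Γ(X, ⊤) Γ(X, X.basicOpen g) := (res (X.basicOpen g)).toAlgebra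
    haveI : IsLocalization.Away g Γ(X, X.basicOpen g) := (isAffineOpen_top X).isLocalization_basicOpen g
    obtain ⟨⟨h, ⟨_, k, rfl⟩⟩, hk⟩ := IsLocalization.surj (Submonoid.powers g)
      (X.presheaf.map (homOfLE hgU).op σ)
    simp only at hk
    have e : X.basicOpen (res U g) = U ⊓ X.basicOpen g := Scheme.basicOpen_res _ _ _
    obtain ⟨n, hn⟩ := exists_pow_mul_eq_zero_of_res_basicOpen_eq_zero_of_isCompact X
      (isCompact_iff_compactSpace.2 (inferInstanceAs (CompactSpace U))) (σ * res U (g ^ k) - res U h) (res U g) (by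
        have : X.presheaf.map (homOfLE hgU).op (σ * res U (g ^ k) - res U h) = 0 := by
          rw [map_sub, map_mul, res_res, res_res]
          exact sub_eq_zero.2 hk
        have h2 := congrArg (X.presheaf.map (homOfLE (e ▸ inf_le_right : X.basicOpen (res U g) ≤ X.basicOpen g)).op) this
        rw [map_zero] at h2
        refine Eq.trans ?_ h2
        change X.presheaf.map _ _ = _
        rw [← CommRingCat.comp_apply, ← Functor.map_comp]
        rfl)
    have : g ^ (n + k) ∈ I := ⟨g ^ n * h, by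
      rw [mul_sub, sub_eq_zero] at hn
      rw [pow_add, map_mul, map_mul, map_pow (res U) g n, ← hn]
      ring⟩
    exact (mem_basicOpen_iff p g).1 hgz (hq.1.1.mem_of_pow_mem _ (hq.1.2 this))
  · obtain ⟨a, b, ha, hb, hab⟩ := hZ z hzU
    letI := stalkAlg p
    haveI : IsLocalization.AtPrime (X.presheaf.stalk z) q := (isAffineOpen_top X).isLocalization_stalk' p trivial
    obtain ⟨N, hN⟩ := pow_map_mem_of_mem_minimalPrimes hq ha
    obtain ⟨M, hM⟩ := pow_map_mem_of_mem_minimalPrimes hq hb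
    obtain ⟨⟨⟨i, x, hx⟩, s⟩, hs⟩ := (IsLocalization.mem_map_algebraMap_iff q.primeCompl _).1 hN
    obtain ⟨⟨⟨j, y, hy⟩, t⟩, ht⟩ := (IsLocalization.mem_map_algebraMap_iff q.primeCompl _).1 hM
    simp only at hs ht
    have hxy : j * x = i * y := hinj (by rw [map_mul, map_mul, hx, hy]; ring)
    let φ := algebraMap Γ(X, ⊤) (X.presheaf.stalk z)
    have hsu := IsLocalization.map_units (X.presheaf.stalk z) s
    have htu := IsLocalization.map_units (X.presheaf.stalk z) t
    have hdvd : a ^ N ∣ b ^ M * φ x := by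
      refine htu.dvd_mul_left.1 ⟨φ s * φ y, ?_⟩
      change φ t * (b ^ M * φ x) = a ^ N * (φ s * φ y)
      rw [← mul_assoc, mul_comm (φ t) (b ^ M), ← mul_assoc (a ^ N), show b ^ M * φ t = φ j from ht,
        show a ^ N * φ s = φ i from hs, ← map_mul, ← map_mul, hxy]
    obtain ⟨c, hc⟩ : φ i ∣ φ x := by
      rw [show φ i = a ^ N * φ s from hs.symm, IsUnit.mul_right_dvd hsu]
      exact eq_mul_of_mul_eq hab.1 hab.2 M N _ hdvd
    obtain ⟨⟨c', v⟩, hv⟩ := IsLocalization.surj q.primeCompl c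
    simp only at hv
    have : φ ((v : Γ(X, ⊤)) * x) = φ (i * c') := by
      change φ _ = _
      rw [map_mul, map_mul, hc, ← show c * φ v = φ c' from hv]
      ring
    obtain ⟨w, hw⟩ := (IsLocalization.eq_iff_exists q.primeCompl _).1 this
    have hm : res U i * (res U ((w : Γ(X, ⊤)) * v) * σ - res U (w * c')) = 0 := by
      rw [map_mul, map_mul, mul_sub, sub_eq_zero]
      have := congrArg (res U) hw
      simp only [map_mul, hx] at this
      linear_combination this
    have hireg : IsSMulRegular (X.presheaf.stalk z) (φ i) := by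
      rw [show φ i = a ^ N * φ s from hs.symm]
      exact (hab.1.pow N).mul (IsUnit.isSMulRegular (M := X.presheaf.stalk z) hsu)
    obtain ⟨r, hr, hr0⟩ := exists_smul_eq_zero U hireg hm
    have : r * (w * v) ∈ I := ⟨r * (w * c'), by
      rw [map_mul, map_mul (res U) r, mul_assoc]
      rw [mul_sub, sub_eq_zero] at hr0
      exact hr0.symm⟩
    rcases hq.1.1.mem_or_mem (hq.1.2 this) with h | h
    · exact hr h
    · rcases hq.1.1.mem_or_mem h with h | h
      · exact w.2 h
      · exact v.2 h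

end Groth.Agent.FlatPurLib
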